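import Cfsg.Agent.Lib.Helper4.TC.Std

set_option autoImplicit false
set_option maxRecDepth 100000
set_option linter.unusedVariables false

/-! Letter codes for seven generators indexed by `Fin 7` (S2043-[P2], certificate `W`). -/

namespace Cfsg.Agent.Lib.Helper22.Co1M.Helper7.Cod

open Cfsg.Agent.Helper4.TC

def gens : List (Fin 7) := [0, 1, 2, 3, 4, 5, 6]

abbrev dec : ℕ → Letter (Fin 7) := stdDec gens 0
abbrev enc : Fin 7 → ℕ := stdEnc gens

theorem coding : Coding dec enc 14 :=
  std_coding gens 0 (by decide) (by decide) 14 (by decide)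

end Cfsg.Agent.Lib.Helper22.Co1M.Helper7.Cod
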